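import Mathlib
import Cfsg.Agent.Lib.CharP.JordanBound
import Cfsg.Agent.Lib.FrobeniusSchur.Basic

/-!
# Elements with clustered eigenvalues

In a finite linear group two elements whose eigenvalues, after a scalar shift by roots of unity,
lie close to one commute; the eigenvalues are read off from the character.
-/

set_option linter.style.haveILetI false
set_option linter.unusedSectionVars false

namespace Cfsg.Agent.BlocksChars.Arc

open Matrix Cfsg.Agent.CharP.JordanBound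
open scoped ComplexConjugate

variable {n : ℕ}

/-- A unitary group with the same character. -/
theorem exists_unitary_trace {G : Type*} [Group G] [Finite G]
    (R : G →* Matrix (Fin n) (Fin n) ℂ) :
    ∃ M : G →* Matrix (Fin n) (Fin n) ℂ, (∀ g, (M g)ᴴ * M g = 1) ∧
      ∀ g, (M g).trace = (R g).trace := by
  classical
  haveI := Fintype.ofFinite G
  open scoped ComplexOrder MatrixOrder in
  obtain ⟨B, hB, hPB⟩ : ∃ B : Matrix (Fin n) (Fin n) ℂ, IsUnit B ∧
      (∑ g : G, (R g)ᴴ * R g) = Bᴴ * B := by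
    have hP : (∑ g : G, (R g)ᴴ * R g).PosDef := by
      rw [← Finset.add_sum_erase _ _ (Finset.mem_univ (1 : G)), map_one, conjTranspose_one,
        Matrix.mul_one]
      exact PosDef.one.add_posSemidef
        (posSemidef_sum _ fun g _ => posSemidef_conjTranspose_mul_self _)
    obtain ⟨B, hB⟩ := CStarAlgebra.nonneg_iff_eq_star_mul_self.mp hP.posSemidef.nonneg
    refine ⟨B, ?_, hB⟩
    rw [Matrix.isUnit_iff_isUnit_det, isUnit_iff_ne_zero]
    intro h0
    have := (Matrix.isUnit_iff_isUnit_det _).1 hP.isUnit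
    rw [hB, det_mul, h0, mul_zero] at this
    exact not_isUnit_zero this
  obtain ⟨u, rfl⟩ := hB
  set B : Matrix (Fin n) (Fin n) ℂ := (u : Matrix (Fin n) (Fin n) ℂ)
  set B' : Matrix (Fin n) (Fin n) ℂ :=
    ((u⁻¹ : (Matrix (Fin n) (Fin n) ℂ)ˣ) : Matrix (Fin n) (Fin n) ℂ)
  have h1 : B * B' = 1 := u.mul_inv
  have h2 : B' * B = 1 := u.inv_mul
  refine ⟨
    { toFun := fun g => B * R g * B'
      map_one' := by rw [map_one, Matrix.mul_one, h1]
      map_mul' := fun g k => by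
        rw [map_mul]
        simp only [Matrix.mul_assoc]
        rw [← Matrix.mul_assoc B' B, h2, Matrix.one_mul] },
    fun g => ?_, fun g => ?_⟩
  · show (B * R g * B')ᴴ * (B * R g * B') = 1
    have hinv : (R g)ᴴ * (Bᴴ * B) * R g = Bᴴ * B := by
      rw [← hPB, Matrix.mul_sum, Matrix.sum_mul]
      refine Fintype.sum_equiv (Equiv.mulRight g) _ _ fun k => ?_
      simp only [Equiv.coe_mulRight, map_mul, conjTranspose_mul, Matrix.mul_assoc]
    calc (B * R g * B')ᴴ * (B * R g * B')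
        = B'ᴴ * ((R g)ᴴ * (Bᴴ * B) * R g) * B' := by
          simp only [conjTranspose_mul, Matrix.mul_assoc]
      _ = (B * B')ᴴ * (B * B') := by
          rw [hinv]; simp only [conjTranspose_mul, Matrix.mul_assoc]
      _ = 1 := by rw [h1, conjTranspose_one, Matrix.one_mul]
  · show (B * R g * B').trace = _
    rw [Matrix.trace_mul_comm, ← Matrix.mul_assoc, h2, Matrix.one_mul]

section Cyclic

variable {K : Type*} [CommGroup K] [Fintype K] (M : K →* Matrix (Fin n) (Fin n) ℂ)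

/-- The multiplicity of a linear character, read off from the trace. -/
theorem trace_proj (θ : K →* ℂˣ) :
    (proj M θ).trace = (Fintype.card K : ℂ)⁻¹ * ∑ k, (θ k⁻¹ : ℂ) * (M k).trace := by
  rw [proj, trace_smul, trace_sum, smul_eq_mul]
  simp only [trace_smul, smul_eq_mul]

/-- A projection of trace zero vanishes. -/
theorem proj_eq_zero (hM : ∀ k, (M k)ᴴ * M k = 1) {θ : K →* ℂˣ}
    (h : ∑ k, (θ k⁻¹ : ℂ) * (M k).trace = 0) : proj M θ = 0 := by
  refine frob_eq_zero ?_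
  rw [frob, proj_herm M hM, proj_mul_self, trace_proj, h, mul_zero, Complex.zero_re]

end Cyclic

/-- Clustered after a shift by a root of unity. -/
def Clustered {G : Type*} [Group G] (M : G →* Matrix (Fin n) (Fin n) ℂ) (a : G) : Prop :=
  ∃ ζ : ℂ, (∃ N : ℕ, 0 < N ∧ ζ ^ N = 1) ∧
    ∀ X : Matrix (Fin n) (Fin n) ℂ, X ≠ 0 → ∀ z : ℂ, M a * X = z • X →
      ∃ t : ℝ, |t| < Real.pi / 6 ∧ ζ * z = Complex.exp (t * Complex.I)

variable {G : Type*} [Group G] [Finite G] (M : G →* Matrix (Fin n) (Fin n) ℂ)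
  (hM : ∀ g, (M g)ᴴ * M g = 1)

include hM in
theorem near_of_clustered_one {a : G} (h : ∀ X : Matrix (Fin n) (Fin n) ℂ, X ≠ 0 → ∀ z : ℂ,
    M a * X = z • X → ∃ t : ℝ, |t| < Real.pi / 6 ∧ z = Complex.exp (t * Complex.I)) :
    Near M a := by
  classical
  letI : CommGroup (Subgroup.zpowers a) :=
    { (inferInstance : Group (Subgroup.zpowers a)) with
      mul_comm := fun u v => Subtype.ext (by
        obtain ⟨i, hi⟩ := Subgroup.mem_zpowers_iff.1 u.2
        obtain ⟨j, hj⟩ := Subgroup.mem_zpowers_iff.1 v.2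
        rw [Subgroup.coe_mul, Subgroup.coe_mul, ← hi, ← hj, ← _root_.zpow_add, ← _root_.zpow_add, add_comm]) }
  haveI := Fintype.ofFinite (Subgroup.zpowers a)
  let MK : Subgroup.zpowers a →* Matrix (Fin n) (Fin n) ℂ := M.comp (Subgroup.zpowers a).subtype
  have hMK : ∀ k, (MK k)ᴴ * MK k = 1 := fun k => hM k
  let ka : Subgroup.zpowers a := ⟨a, Subgroup.mem_zpowers a⟩
  have hang : ∀ θ, proj MK θ ≠ 0 → ∃ t : ℝ, |t| < Real.pi / 6 ∧
      (θ ka : ℂ) = Complex.exp (t * Complex.I) := fun θ hθ =>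
    h _ hθ _ (mul_proj MK θ ka)
  refine ⟨fun X => frob_sub_one_le MK hMK (k := ka) (fun θ hθ => ?_) X, ?_⟩
  · obtain ⟨t, ht, e⟩ := hang θ hθ
    rw [e]
    exact normSq_exp_sub_one_le ht
  let Act := {θ : Subgroup.zpowers a →* ℂˣ // proj MK θ ≠ 0}
  let T : Finset ℝ := insert 0 (((Finset.univ : Finset Act) ×ˢ (Finset.univ : Finset Act)).image
    fun p => Complex.normSq ((p.1.1 ka : ℂ) - (p.2.1 ka : ℂ)))
  refine ⟨T.max' (Finset.insert_nonempty _ _), ?_, fun X =>
    frob_comm_le MK hMK (k := ka) (fun θ φ hθ hφ => ?_) X⟩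
  · rw [Finset.max'_lt_iff]
    intro t ht
    rcases Finset.mem_insert.1 ht with rfl | ht
    · exact one_pos
    obtain ⟨⟨θ, φ⟩, -, rfl⟩ := Finset.mem_image.1 ht
    obtain ⟨s, hs, es⟩ := hang θ θ.2
    obtain ⟨t, ht, et⟩ := hang φ φ.2
    dsimp only
    rw [es, et]
    exact normSq_exp_sub_lt_one hs ht
  · exact Finset.le_max' T _ (Finset.mem_insert_of_mem (Finset.mem_image.2
      ⟨(⟨θ, hθ⟩, ⟨φ, hφ⟩), Finset.mem_product.2 ⟨Finset.mem_univ _, Finset.mem_univ _⟩, rfl⟩))

include hM in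
/-- Blichfeldt: clustered elements commute. -/
theorem commute_of_clustered (hinj : Function.Injective M) {a b : G} (ha : Clustered M a)
    (hb : Clustered M b) : a * b = b * a := by
  classical
  obtain ⟨ζ, ⟨N, hN, hζ⟩, hza⟩ := ha
  obtain ⟨η, ⟨N', hN', hη⟩, hzb⟩ := hb
  haveI : NeZero (N * N') := ⟨(Nat.mul_pos hN hN').ne'⟩
  let ι : rootsOfUnity (N * N') ℂ →* Matrix (Fin n) (Fin n) ℂ :=
    (algebraMap ℂ (Matrix (Fin n) (Fin n) ℂ)).toMonoidHom.comp
      ((Units.coeHom ℂ).comp (rootsOfUnity (N * N') ℂ).subtype)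
  have hcomm : ∀ (g : G) (c : rootsOfUnity (N * N') ℂ), Commute (M g) (ι c) := fun g c =>
    (Algebra.commutes ((c : ℂˣ) : ℂ) (M g)).symm
  let F : G × rootsOfUnity (N * N') ℂ →* Matrix (Fin n) (Fin n) ℂ :=
    MonoidHom.noncommCoprod M ι hcomm
  let U := F.toHomUnits.range
  let MU : U →* Matrix (Fin n) (Fin n) ℂ := (Units.coeHom _).comp U.subtype
  haveI : Finite U := Set.finite_range F.toHomUnits |>.to_subtype
  have hMU : ∀ u, (MU u)ᴴ * MU u = 1 := by
    rintro ⟨_, ⟨⟨g, c⟩, rfl⟩⟩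
    show (M g * ι c)ᴴ * (M g * ι c) = 1
    have hc : conj ((c : ℂˣ) : ℂ) * ((c : ℂˣ) : ℂ) = 1 := by
      rw [← Complex.normSq_eq_conj_mul_self, Complex.normSq_eq_norm_sq,
        Complex.norm_eq_one_of_pow_eq_one (n := N * N') ?_ (NeZero.ne _)]
      · simp
      · rw [← Units.val_pow_eq_pow_val, c.2, Units.val_one]
    simp only [ι, MonoidHom.coe_comp, Function.comp_apply, RingHom.toMonoidHom_eq_coe,
      MonoidHom.coe_coe, Subgroup.coe_subtype, Units.coeHom_apply, Algebra.algebraMap_eq_smul_one,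
      Matrix.mul_smul, Matrix.mul_one, conjTranspose_smul, Matrix.smul_mul, smul_smul, hM]
    rw [mul_comm] at hc
    rw [show ((c : ℂˣ) : ℂ) * star ((c : ℂˣ) : ℂ) = 1 from hc, one_smul]
  have hinjU : Function.Injective MU := fun u v h => Subtype.ext (Units.ext h)
  have key : ∀ (g : G) (c : ℂ) (hc : c ^ (N * N') = 1),
      (∀ X : Matrix (Fin n) (Fin n) ℂ, X ≠ 0 → ∀ z : ℂ, M g * X = z • X →
        ∃ t : ℝ, |t| < Real.pi / 6 ∧ c * z = Complex.exp (t * Complex.I)) →
      ∃ u : U, MU u = c • M g ∧ Near MU u := by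
    intro g c hc hg
    set c' := rootsOfUnity.mkOfPowEq c hc
    have e : F (g, c') = c • M g := by
      show M g * algebraMap ℂ _ ((c' : ℂˣ) : ℂ) = _
      rw [Algebra.algebraMap_eq_smul_one, Matrix.mul_smul, Matrix.mul_one]
      rfl
    refine ⟨⟨F.toHomUnits (g, c'), (g, c'), rfl⟩, e,
      near_of_clustered_one MU hMU fun X hX z hz => ?_⟩
    have hc0 : c ≠ 0 := fun h => by simp [h, NeZero.ne] at hc
    have hz' : F (g, c') * X = z • X := hz
    rw [e, Matrix.smul_mul] at hz'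
    obtain ⟨t, ht, et⟩ := hg X hX (c⁻¹ * z)
      (by rw [mul_smul, ← hz', smul_smul, inv_mul_cancel₀ hc0, one_smul])
    exact ⟨t, ht, by rw [← et, ← mul_assoc, mul_inv_cancel₀ hc0, one_mul]⟩
  obtain ⟨u, hu, hnu⟩ := key a ζ (by rw [pow_mul, hζ, one_pow]) hza
  obtain ⟨v, hv, hnv⟩ := key b η (by rw [mul_comm, pow_mul, hη, one_pow]) hzb
  have h := congrArg MU (near_commute MU hMU hinjU hnu hnv)
  rw [map_mul, map_mul, hu, hv, Matrix.smul_mul, Matrix.mul_smul, Matrix.smul_mul, Matrix.mul_smul,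
    smul_smul, smul_smul, mul_comm η ζ, ← map_mul, ← map_mul] at h
  have h0 : ζ * η ≠ 0 := mul_ne_zero (fun h => by simp [h, hN.ne'] at hζ)
    (fun h => by simp [h, hN'.ne'] at hη)
  exact hinj (smul_right_injective _ h0 h)

/-- Clustering is invariant under conjugation. -/
theorem clustered_conj {a : G} (ha : Clustered M a) (g : G) : Clustered M (g * a * g⁻¹) := by
  obtain ⟨ζ, hζ, h⟩ := ha
  refine ⟨ζ, hζ, fun X hX z hz => h (M g⁻¹ * X) ?_ z ?_⟩
  · intro h0
    refine hX ?_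
    rw [← Matrix.one_mul X, ← map_one M, ← mul_inv_cancel g, map_mul, Matrix.mul_assoc, h0,
      Matrix.mul_zero]
  · rw [← Matrix.mul_smul, ← hz, ← Matrix.mul_assoc, ← Matrix.mul_assoc, ← map_mul, ← map_mul]
    congr 2
    group

end Cfsg.Agent.BlocksChars.Arc
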