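import Mathlib
import Cfsg.Agent.Lib.CharP.JordanBound
import Cfsg.Agent.Lib.Characters.Inner
import Cfsg.Agent.Lib.Characters.Schur
import Cfsg.Agent.Lib.Characters.Kernel

/-!
# Blichfeldt's sixty-degree lemma

If all eigenvalues of `x` lie strictly within sixty degrees of one of them, then the eigenspace
of that one is stable under every conjugate of `x`.
-/

set_option linter.style.haveILetI false
set_option linter.unusedSectionVars false

namespace Cfsg.Agent.BlocksChars.Arc

open Matrix Cfsg.Agent.CharP.JordanBound Cfsg.Agent.Characters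

universe u

variable {n : ℕ}

theorem frob_smul (z : ℂ) (X : Matrix (Fin n) (Fin n) ℂ) :
    frob (z • X) = Complex.normSq z * frob X := by
  rw [frob, conjTranspose_smul, Matrix.smul_mul, Matrix.mul_smul, smul_smul, trace_smul,
    Complex.star_def, ← Complex.normSq_eq_conj_mul_self, smul_eq_mul, Complex.re_ofReal_mul, frob]

theorem frob_sub_symm (X Y : Matrix (Fin n) (Fin n) ℂ) : frob (X - Y) = frob (Y - X) := by
  rw [← frob_neg, neg_sub]

/-- An orthogonal projection shrinks. -/
theorem frob_sub_mul_le {Q : Matrix (Fin n) (Fin n) ℂ} (hh : Qᴴ = Q) (hi : Q * Q = Q)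
    (X : Matrix (Fin n) (Fin n) ℂ) : frob (X - Q * X) ≤ frob X := by
  have h : ((Q * X)ᴴ * (X - Q * X)).trace = 0 := by
    rw [conjTranspose_mul, hh, Matrix.mul_assoc, Matrix.mul_sub, ← Matrix.mul_assoc Q Q, hi,
      sub_self, Matrix.mul_zero, trace_zero]
  have h' := frob_sub_orth (X - Q * X) (-(Q * X)) (by
    rw [conjTranspose_neg, Matrix.neg_mul, trace_neg, h, neg_zero])
  rw [sub_neg_eq_add, sub_add_cancel, frob_neg] at h'
  linarith [frob_nonneg (Q * X)]

variable {G : Type u} [Group G] [Finite G] (M : G →* Matrix (Fin n) (Fin n) ℂ)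
  (hM : ∀ g, (M g)ᴴ * M g = 1)

include hM in
theorem adjoint_eq (g : G) : (M g)ᴴ = M g⁻¹ := by
  have h : M g * M g⁻¹ = 1 := by rw [← map_mul, mul_inv_cancel, map_one]
  rw [← Matrix.mul_one (M g)ᴴ, ← h, ← Matrix.mul_assoc, hM, Matrix.one_mul]

theorem cancel_left (g : G) (X : Matrix (Fin n) (Fin n) ℂ) : M g⁻¹ * (M g * X) = X := by
  rw [← Matrix.mul_assoc, ← map_mul, inv_mul_cancel, map_one, Matrix.one_mul]

theorem cancel_right (g : G) (X : Matrix (Fin n) (Fin n) ℂ) : M g * (M g⁻¹ * X) = X := by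
  rw [← Matrix.mul_assoc, ← map_mul, mul_inv_cancel, map_one, Matrix.one_mul]

include hM in
/-- Blichfeldt: `P` is the eigenprojection of `ε` and all the other eigenvalues of `x` are nearer
to `ε` than `1`. -/
theorem commute_proj_conj (x : G) (ε : ℂ) (hε : Complex.normSq ε = 1)
    (P : Matrix (Fin n) (Fin n) ℂ) (hPh : Pᴴ = P) (hPi : P * P = P) (hxP : M x * P = ε • P)
    (c : ℝ) (hc : c < 1) (hc0 : 0 ≤ c)
    (hnear : ∀ X, frob (M x * X - ε • X) ≤ c * frob (X - P * X))
    (hpoly : ∀ Y, M x * Y = Y * M x → P * Y = Y * P) (g : G) :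
    M (g * x * g⁻¹) * P = P * M (g * x * g⁻¹) := by
  classical
  let Pc : G → Matrix (Fin n) (Fin n) ℂ := fun w => M w * P * M w⁻¹
  have hA : ∀ w, M (w * x * w⁻¹) = M w * M x * M w⁻¹ := fun w => by rw [map_mul, map_mul]
  have hPch : ∀ w, (Pc w)ᴴ = Pc w := fun w => by
    simp only [Pc, conjTranspose_mul, hPh, adjoint_eq M hM, inv_inv, Matrix.mul_assoc]
  have hPci : ∀ w, Pc w * Pc w = Pc w := fun w => by
    simp only [Pc, Matrix.mul_assoc, cancel_left, ← Matrix.mul_assoc P P, hPi]
  have hnear' : ∀ w X,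
      frob (M (w * x * w⁻¹) * X - ε • X) ≤ c * frob (X - Pc w * X) := by
    intro w X
    have h := hnear (M w⁻¹ * X)
    rw [← frob_left (M w) _ (hM w)] at h
    refine le_trans (le_of_eq ?_) (h.trans (le_of_eq ?_))
    · rw [hA, Matrix.mul_sub, Matrix.mul_smul, cancel_right]
      simp only [Matrix.mul_assoc]
    · rw [← frob_left (M w) (M w⁻¹ * X - P * (M w⁻¹ * X)) (hM w), Matrix.mul_sub, cancel_right]
      simp only [Pc, Matrix.mul_assoc]
  have hpoly' : ∀ w Y, M (w * x * w⁻¹) * Y = Y * M (w * x * w⁻¹) → Pc w * Y = Y * Pc w := by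
    intro w Y h
    have h1 : P * (M w⁻¹ * Y * M w) = M w⁻¹ * Y * M w * P := by
      refine hpoly _ ?_
      calc M x * (M w⁻¹ * Y * M w) = M w⁻¹ * (M (w * x * w⁻¹) * Y) * M w := by
            simp only [hA, Matrix.mul_assoc, cancel_left]
        _ = M w⁻¹ * (Y * M (w * x * w⁻¹)) * M w := by rw [h]
        _ = _ := by
            simp only [hA, Matrix.mul_assoc]
            rw [← map_mul M w⁻¹ w, inv_mul_cancel, map_one, Matrix.mul_one]
    calc Pc w * Y = M w * (P * (M w⁻¹ * Y * M w)) * M w⁻¹ := by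
          simp only [Pc, Matrix.mul_assoc]
          rw [← map_mul M w w⁻¹, mul_inv_cancel, map_one, Matrix.mul_one]
      _ = M w * (M w⁻¹ * Y * M w * P) * M w⁻¹ := by rw [h1]
      _ = Y * Pc w := by simp only [Pc, Matrix.mul_assoc, cancel_right]
  set D : G → ℝ := fun w => frob (P - Pc w * P) with hD
  by_contra hg
  set bad : Finset G := (Set.toFinite {w : G | ¬ M (w * x * w⁻¹) * P = P * M (w * x * w⁻¹)}).toFinset
    with hbad
  obtain ⟨w, hw, hmin⟩ := Finset.exists_min_image bad D
    ⟨g, by rw [hbad, Set.Finite.mem_toFinset]; exact hg⟩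
  rw [hbad, Set.Finite.mem_toFinset, Set.mem_ofPred_eq] at hw
  set y : G := w * x * w⁻¹ with hy
  have hεε : star ε * ε = 1 := by
    rw [Complex.star_def, ← Complex.normSq_eq_conj_mul_self, hε, Complex.ofReal_one]
  have hstep : frob (M y * P - ε • P) ≤ c * D w := hnear' w P
  have hpos : 0 < D w := by
    refine lt_of_le_of_ne (frob_nonneg _) fun h0 => hw ?_
    rw [← h0, mul_zero] at hstep
    have h1 : M y * P = ε • P :=
      sub_eq_zero.1 (frob_eq_zero (le_antisymm hstep (frob_nonneg _)))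
    have h2 : P * M y⁻¹ = star ε • P := by
      rw [← adjoint_eq M hM]
      have := congrArg conjTranspose h1
      rwa [conjTranspose_mul, conjTranspose_smul, hPh] at this
    have h3 : P * M y = ε • P := by
      have e : P = star ε • (P * M y) := by
        conv_lhs => rw [← Matrix.mul_one P, ← map_one M, ← inv_mul_cancel y, map_mul,
          ← Matrix.mul_assoc, h2, Matrix.smul_mul]
      conv_rhs => rw [e, smul_smul, mul_comm, hεε, one_smul]
    rw [h1, h3]
  have hMyP : Pc y * (M y * P) = M y * P := by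
    simp only [Pc, Matrix.mul_assoc, cancel_left, hPi]
  have hlt : D y < D w := by
    have h1 : D y ≤ frob (ε • P - M y * P) := by
      have h := frob_sub_mul_le (hPch y) (hPci y) (ε • P - M y * P)
      rw [Matrix.mul_sub, hMyP, Matrix.mul_smul, sub_sub_sub_cancel_right, ← smul_sub, frob_smul,
        hε, one_mul] at h
      exact h
    rw [frob_sub_symm] at h1
    calc D y ≤ c * D w := h1.trans hstep
      _ < 1 * D w := (mul_lt_mul_iff_of_pos_right hpos).2 hc
      _ = D w := one_mul _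
  have hgood : M (y * x * y⁻¹) * P = P * M (y * x * y⁻¹) := by
    by_contra h
    exact absurd (hmin y (by rw [hbad, Set.Finite.mem_toFinset]; exact h)) (not_le.2 hlt)
  have hcomm : Pc y * P = P * Pc y := hpoly' y P hgood
  set Q : Matrix (Fin n) (Fin n) ℂ := P - Pc y * P with hQ
  have hQh : Qᴴ = Q := by
    rw [hQ, conjTranspose_sub, conjTranspose_mul, hPh, hPch, ← hcomm]
  have hQQ : Q * (M y * Q) = 0 := by
    have e : M y * Q = M y * P * (1 - Pc y) := by
      rw [hQ, hcomm, Matrix.mul_sub, Matrix.mul_sub, Matrix.mul_one, Matrix.mul_assoc]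
    rw [e, ← Matrix.mul_assoc, hQ, hcomm, Matrix.sub_mul, Matrix.mul_assoc P, hMyP, sub_self,
      Matrix.zero_mul]
  have hQ0 : Q = 0 := by
    refine frob_eq_zero ?_
    have h1 : frob (M y * Q - ε • Q) = frob Q + frob Q := by
      rw [frob_sub_orth, frob_left _ _ (hM y), frob_smul, hε, one_mul]
      rw [conjTranspose_smul, hQh, Matrix.smul_mul, hQQ, smul_zero, trace_zero]
    have h2 : frob (Q - Pc w * Q) ≤ frob Q := frob_sub_mul_le (hPch w) (hPci w) Q
    have h3 := hnear' w Q
    rw [h1] at h3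
    nlinarith [mul_le_mul_of_nonneg_left h2 hc0, frob_nonneg Q]
  have hPP : Pc y * P = P := (sub_eq_zero.1 hQ0).symm
  have hPeq : Pc y = P := by
    refine sub_eq_zero.1 (frob_eq_zero ?_)
    have e : (Pc y - P)ᴴ * (Pc y - P) = Pc y - P := by
      rw [conjTranspose_sub, hPch, hPh, Matrix.sub_mul, Matrix.mul_sub, Matrix.mul_sub, hPci, hPi,
        ← hcomm, hPP]
      abel
    rw [frob, e, trace_sub, show (Pc y).trace = P.trace from ?_, sub_self, Complex.zero_re]
    rw [show Pc y = M y * (P * M y⁻¹) from Matrix.mul_assoc _ _ _, Matrix.trace_mul_comm,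
      Matrix.mul_assoc, ← map_mul, inv_mul_cancel, map_one, Matrix.mul_one]
  refine hw ?_
  calc M y * P = M y * P * M y⁻¹ * M y := by
        rw [Matrix.mul_assoc (M y * P), ← map_mul, inv_mul_cancel, map_one, Matrix.mul_one]
    _ = P * M y := by rw [show M y * P * M y⁻¹ = P from hPeq]

/-- Schur's lemma for a matrix form of an irreducible character. -/
theorem eq_smul_one_of_commute {χ : G → ℂ} (hχ : Cfsg.IsIrrCharacter G χ)
    (htr : ∀ g, (M g).trace = χ g) {Y : Matrix (Fin n) (Fin n) ℂ}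
    (hY : ∀ g, M g * Y = Y * M g) : ∃ c : ℂ, Y = c • 1 := by
  obtain ⟨d, ρ, hρ, rfl⟩ := hχ
  let σ : Representation ℂ G (Fin n → ℂ) :=
    (Matrix.toLinAlgEquiv' (R := ℂ) (n := Fin n)).toMulEquiv.toMonoidHom.comp M
  have hσ : σ.character = ρ.character := funext fun g => by
    rw [← htr]
    show LinearMap.trace ℂ _ (Matrix.toLinAlgEquiv' (M g)) = _
    exact Matrix.trace_toLin'_eq (M g)
  obtain ⟨φ⟩ := nonempty_equiv_of_character_eq σ ρ hσ
  haveI : σ.IsIrreducible := (isIrreducible_congr φ).2 hρ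
  obtain ⟨c, hc⟩ := schur_scalar σ (Matrix.toLinAlgEquiv' Y) fun g v => by
    show Matrix.toLinAlgEquiv' Y (Matrix.toLinAlgEquiv' (M g) v) =
      Matrix.toLinAlgEquiv' (M g) (Matrix.toLinAlgEquiv' Y v)
    rw [← Module.End.mul_apply, ← Module.End.mul_apply, ← map_mul, ← map_mul, hY]
  refine ⟨c, (Matrix.toLinAlgEquiv' (R := ℂ) (n := Fin n)).injective ?_⟩
  rw [map_smul, map_one, hc]
  rfl

end Cfsg.Agent.BlocksChars.Arc
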