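import Mathlib
import Cfsg.Agent.BlocksChars.Arc.Sixty
import Cfsg.Agent.Lib.Blocks.Orthogonality
import Cfsg.Agent.Lib.Blocks.LocalRing
import Cfsg.Agent.BlocksChars.Arc.Commute
import Cfsg.Agent.BlockCharsA.DefectZeroVanish

/-!
# A principal block character with few eigenvalues on a central `p`-element

For `x` of order `p` in the centre of a Sylow `p`-subgroup of a group of order `p^a q^b g₀` there is
a nonprincipal irreducible character having at most `g₀` distinct eigenvalues at `x`.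
-/

set_option linter.style.haveILetI false
set_option linter.unusedSectionVars false

namespace Cfsg.Agent.BlocksChars.Arc

open Matrix Cfsg.Agent.CharP.JordanBound Cfsg.Agent.Characters Cfsg.Agent.Blocks
open scoped ComplexConjugate

universe u

variable {G : Type u} [Group G] [Finite G]

/-- A nonprincipal character in the principal block, of degree prime to `q`, not vanishing at `x`. -/
theorem exists_principal_char {p q : ℕ} {M : Ideal Cfsg.AlgInt} (hM : Cfsg.IsPModular p M)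
    (hq : q.Prime) {x : G} (hx : orderOf x = p) :
    ∃ χ : Cfsg.IrrCharacter G, χ ∈ Cfsg.principalBlock M G ∧ χ ≠ trivIrr G ∧
      (χ : G → ℂ) x ≠ 0 ∧ ∀ d : ℕ, (χ : G → ℂ) 1 = d → ¬ q ∣ d := by
  classical
  haveI := Fintype.ofFinite (Cfsg.IrrCharacter G)
  have hp := hM.1
  have hxp : Cfsg.IsPPart p x x := ⟨1, mul_one x, Commute.one_right x, ⟨1, by rw [hx, pow_one]⟩,
    by rw [orderOf_one]; exact hp.not_dvd_one⟩
  have h1p : Cfsg.IsPPart p (1 : G) 1 := ⟨1, mul_one 1, Commute.one_right 1, ⟨0, by simp⟩,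
    by rw [orderOf_one]; exact hp.not_dvd_one⟩
  have hne : ¬ IsConj x 1 := fun h => by
    rw [isConj_one_left] at h
    exact hp.one_lt.ne (by rw [← hx, h, orderOf_one])
  have hsum := sum_block_mul_conj_eq_zero hM (intEl_blockIdem hM (isPBlock_principal M G)) hxp h1p hne
  rw [finsum_mem_eq_toFinset_sum, ← Finset.add_sum_erase _ _
    (Set.mem_toFinset.2 (trivIrr_mem_principal hM))] at hsum
  by_contra! hcon
  have hrest : ∃ w : ℂ, IsIntegral ℤ w ∧
      ∑ χ ∈ (Cfsg.principalBlock M G).toFinset.erase (trivIrr G),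
        (χ : G → ℂ) x * conj ((χ : G → ℂ) 1) = (q : ℂ) * w := by
    refine Finset.sum_induction _ (fun z => ∃ w : ℂ, IsIntegral ℤ w ∧ z = (q : ℂ) * w) ?_
      ⟨0, isIntegral_zero, (mul_zero _).symm⟩ ?_
    · rintro _ _ ⟨u, hu, rfl⟩ ⟨v, hv, rfl⟩
      exact ⟨u + v, hu.add hv, (mul_add _ _ _).symm⟩
    · intro χ hχ
      rw [Finset.mem_erase, Set.mem_toFinset] at hχ
      by_cases hv : (χ : G → ℂ) x = 0
      · exact ⟨0, isIntegral_zero, by rw [hv]; simp⟩
      obtain ⟨d, hd, k, hk⟩ := hcon χ hχ.2 hχ.1 hv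
      refine ⟨(χ : G → ℂ) x * (k : ℂ),
        (char_value_isIntegral (irr_isCharacter χ) x).mul (map_natCast (algebraMap ℤ ℂ) k ▸ isIntegral_algebraMap), ?_⟩
      rw [hd, hk, Complex.conj_natCast, Nat.cast_mul]
      ring
  obtain ⟨w, hw, hw'⟩ := hrest
  rw [hw', show (trivIrr G : G → ℂ) x = 1 from rfl, show (trivIrr G : G → ℂ) 1 = 1 from rfl,
    map_one, mul_one] at hsum
  have hq0 : (q : ℂ) ≠ 0 := Nat.cast_ne_zero.2 hq.ne_zero
  have h1 : IsIntegral ℤ (((1 : ℕ) : ℂ) / (q : ℂ)) := by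
    have e : ((1 : ℕ) : ℂ) / (q : ℂ) = -w := by
      rw [div_eq_iff hq0, Nat.cast_one]
      linear_combination hsum
    rw [e]
    exact hw.neg
  exact hq.not_dvd_one (dvd_of_isIntegral_div hq.ne_zero h1)

/-- The values at a central `p`-element of a principal block character of degree `p^i m`. -/
theorem value_data {p : ℕ} {M : Ideal Cfsg.AlgInt} (hM : Cfsg.IsPModular p M)
    {χ : Cfsg.IrrCharacter G} (hχ : χ ∈ Cfsg.principalBlock M G) {i m : ℕ} (hm : ¬ p ∣ m)
    (hd : (χ : G → ℂ) 1 = (p ^ i * m : ℕ)) {g : G}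
    (hg : ¬ p ∣ (Subgroup.centralizer ({g} : Set G)).index) :
    IsIntegral ℤ ((χ : G → ℂ) g / (p : ℂ) ^ i) ∧
      Cong M ((χ : G → ℂ) g / (p : ℂ) ^ i) (m : ℂ) := by
  have hp := hM.1
  set h := (Subgroup.centralizer ({g} : Set G)).index with hh
  have hp0 : (p : ℂ) ^ i ≠ 0 := pow_ne_zero _ (Nat.cast_ne_zero.2 hp.ne_zero)
  have hm0 : (m : ℂ) ≠ 0 := Nat.cast_ne_zero.2 (by rintro rfl; simp at hm)
  have hh0 : (h : ℂ) ≠ 0 := Nat.cast_ne_zero.2 (by intro e; simp [e] at hg)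
  constructor
  · obtain ⟨⟨v, hv⟩, hc⟩ : IsIntegral ℤ ((χ : G → ℂ) g) ∧
        IsIntegral ℤ ((h : ℂ) * (χ : G → ℂ) g / (χ : G → ℂ) 1) := by
      obtain ⟨d, ρ, hρ, e⟩ := χ.2
      rw [← e, ρ.char_one]
      haveI := hρ
      exact ⟨rep_value_isIntegral ρ g, class_central_char_isIntegral ρ g⟩
    have hint : IsIntegral ℤ ((χ : G → ℂ) g) := ⟨v, hv⟩
    have h2 : IsIntegral ℤ ((h : ℂ) * ((χ : G → ℂ) g / (p : ℂ) ^ i)) := by
      have e : (h : ℂ) * ((χ : G → ℂ) g / (p : ℂ) ^ i)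
          = (m : ℂ) * ((h : ℂ) * (χ : G → ℂ) g / (χ : G → ℂ) 1) := by
        rw [hd]; push_cast; field_simp
      rw [e]
      exact (map_natCast (algebraMap ℤ ℂ) m ▸ isIntegral_algebraMap).mul hc
    have hcop : Nat.Coprime h (p ^ i) := ((hp.coprime_iff_not_dvd.2 hg).symm).pow_right i
    have hbz := Nat.gcd_eq_gcd_ab h (p ^ i)
    rw [Nat.coprime_iff_gcd_eq_one.1 hcop] at hbz
    have hbz' := congrArg (fun z : ℤ => (z : ℂ)) hbz
    push_cast at hbz'
    have e : (χ : G → ℂ) g / (p : ℂ) ^ i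
        = (Nat.gcdA h (p ^ i) : ℂ) * ((h : ℂ) * ((χ : G → ℂ) g / (p : ℂ) ^ i))
          + (Nat.gcdB h (p ^ i) : ℂ) * (χ : G → ℂ) g := by
      field_simp
      linear_combination (χ : G → ℂ) g * hbz'
    rw [e]
    exact ((isIntegral_algebraMap (x := Nat.gcdA h (p ^ i))).mul h2).add
      ((isIntegral_algebraMap (x := Nat.gcdB h (p ^ i))).mul hint)
  · have h1 := hχ g
    simp only [Cfsg.centralChar, mul_one, div_one, ← hh] at h1
    have h2 := ideal_mul_left hM
      (ring_mul hM (ring_natCast hM m) (ring_inv_natCast hM hg)) h1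
    rw [hd] at h2
    have e : (m : ℂ) * (h : ℂ)⁻¹ *
        ((h : ℂ) - (h : ℂ) * (χ : G → ℂ) g / ((p ^ i * m : ℕ) : ℂ))
          = (m : ℂ) - (χ : G → ℂ) g / (p : ℂ) ^ i := by
      push_cast; field_simp
    rw [e] at h2
    exact cong_symm hM h2

/-- At most `m` eigenspaces occur. -/
theorem card_active_le_of_dvd {p : ℕ} {M : Ideal Cfsg.AlgInt} (hM : Cfsg.IsPModular p M)
    {χ : Cfsg.IrrCharacter G} (hχ : χ ∈ Cfsg.principalBlock M G) {i m : ℕ} (hm : ¬ p ∣ m)
    (hd : (χ : G → ℂ) 1 = (p ^ i * m : ℕ)) {K : Type*} [CommGroup K] [Fintype K]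
    (hK : Fintype.card K = p) (j : K →* G)
    (hj : ∀ k : K, k ≠ 1 → ¬ p ∣ (Subgroup.centralizer ({j k} : Set G)).index) {d : ℕ}
    (R : K →* Matrix (Fin d) (Fin d) ℂ) (hR : ∀ k, (R k)ᴴ * R k = 1)
    (htr : ∀ k, (R k).trace = (χ : G → ℂ) (j k)) :
    Nat.card {θ : K →* ℂˣ // proj R θ ≠ 0} ≤ m := by
  classical
  have hp := hM.1
  have hp0 : (p : ℂ) ≠ 0 := Nat.cast_ne_zero.2 hp.ne_zero
  have hf : Cfsg.IsCharacter K (fun k => (χ : G → ℂ) (j k)) :=
    isCharacter_comp j (irr_isCharacter χ)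
  choose c hc using fun θ : K →* ℂˣ =>
    classInner_char_nat hf (isCharacter_linear θ)
  have hctr : ∀ θ, (proj R θ).trace = (c θ : ℂ) := by
    intro θ
    rw [trace_proj, ← hc, classInner_def, Nat.card_eq_fintype_card]
    congr 1
    refine Finset.sum_congr rfl fun k _ => ?_
    rw [htr, conj_theta, mul_comm]
  set hv : K → ℂ := fun k => (χ : G → ℂ) (j k) / (p : ℂ) ^ i with hhv
  have hdata : ∀ k, IsIntegral ℤ (hv k) ∧ Cong M (hv k) (m : ℂ) := by
    intro k
    by_cases hk : k = 1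
    · subst hk
      have e : hv 1 = (m : ℂ) := by
        show (χ : G → ℂ) (j 1) / (p : ℂ) ^ i = _
        rw [map_one, hd]; push_cast; field_simp
      rw [e]
      exact ⟨map_natCast (algebraMap ℤ ℂ) m ▸ isIntegral_algebraMap, cong_refl hM _⟩
    · exact value_data hM hχ hm hd (hj k hk)
  have hdiv : ∀ θ, p ^ i ∣ c θ := by
    intro θ
    have hθ : ∀ k : K, (θ k⁻¹ : ℂ) ^ p ^ 1 = 1 := fun k => by
      rw [pow_one, ← Units.val_pow_eq_pow_val, ← map_pow, ← hK, pow_card_eq_one, map_one,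
        Units.val_one]
    set S : ℂ := ∑ k, (θ k⁻¹ : ℂ) * hv k with hS
    have hSint : IsIntegral ℤ S := IsIntegral.sum _ fun k _ =>
      (isIntegral_of_pow_eq_one (pow_ne_zero _ hp.ne_zero) (hθ k)).mul (hdata k).1
    have hScong : Cong M S ((p * m : ℕ) : ℂ) := by
      have e : ((p * m : ℕ) : ℂ) = ∑ _k : K, (1 : ℂ) * (m : ℂ) := by
        rw [Finset.sum_const, Finset.card_univ, hK, nsmul_eq_mul, one_mul, Nat.cast_mul]
      rw [e]
      exact cong_sum hM fun k _ => cong_mul hM (cong_one_of_pow_prime_pow hM (hθ k)) (hdata k).2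
        (ring_one hM) (ring_natCast hM m)
    have hSeq : S = ((p * c θ : ℕ) : ℂ) / ((p ^ i : ℕ) : ℂ) := by
      have h := hctr θ
      rw [trace_proj, hK] at h
      rw [eq_div_iff (Nat.cast_ne_zero.2 (pow_ne_zero _ hp.ne_zero)), hS, Finset.sum_mul]
      have h' : ∑ k, (θ k⁻¹ : ℂ) * (R k).trace = (p : ℂ) * (c θ : ℂ) := by
        rw [← h, ← mul_assoc, mul_inv_cancel₀ hp0, one_mul]
      push_cast
      rw [← h']
      refine Finset.sum_congr rfl fun k _ => ?_
      rw [htr, hhv]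
      field_simp
    obtain ⟨N, hN⟩ := dvd_of_isIntegral_div (pow_ne_zero _ hp.ne_zero) (hSeq ▸ hSint)
    have hSN : S = (N : ℂ) := by
      rw [hSeq, hN, Nat.cast_mul,
        mul_div_cancel_left₀ _ (Nat.cast_ne_zero.2 (pow_ne_zero _ hp.ne_zero))]
    have hpN : p ∣ N := by
      refine (ideal_natCast_iff hM N).1 ?_
      rw [← hSN]
      exact (ideal_iff_of_cong hM hScong).2
        ((ideal_natCast_iff hM _).2 (dvd_mul_right p m))
    obtain ⟨N', rfl⟩ := hpN
    exact ⟨N', mul_left_cancel₀ hp.ne_zero (by rw [hN]; ring)⟩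
  have hsum : ∑ θ, c θ = p ^ i * m := by
    have h : ((∑ θ, c θ : ℕ) : ℂ) = ((p ^ i * m : ℕ) : ℂ) := by
      rw [← hd, ← map_one j, ← htr, map_one, ← sum_proj R, trace_sum]
      push_cast
      exact Finset.sum_congr rfl fun θ _ => (hctr θ).symm
    exact_mod_cast h
  rw [Nat.card_eq_fintype_card, Fintype.card_subtype]
  refine Nat.le_of_mul_le_mul_left ?_ (pow_pos hp.pos i)
  calc p ^ i * (Finset.univ.filter fun θ => proj R θ ≠ 0).card
      = ∑ _θ ∈ Finset.univ.filter (fun θ => proj R θ ≠ 0), p ^ i := by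
        rw [Finset.sum_const, smul_eq_mul, mul_comm]
    _ ≤ ∑ θ ∈ Finset.univ.filter (fun θ => proj R θ ≠ 0), c θ := by
        refine Finset.sum_le_sum fun θ hθ => ?_
        refine Nat.le_of_dvd (Nat.pos_of_ne_zero fun h0 => (Finset.mem_filter.1 hθ).2 ?_) (hdiv θ)
        refine proj_eq_zero R hR ?_
        have h := hctr θ
        rw [trace_proj, h0, Nat.cast_zero, mul_eq_zero] at h
        exact h.resolve_left (inv_ne_zero (Nat.cast_ne_zero.2 Fintype.card_ne_zero))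
    _ ≤ ∑ θ, c θ := Finset.sum_le_sum_of_subset (Finset.filter_subset _ _)
    _ = p ^ i * m := hsum

end Cfsg.Agent.BlocksChars.Arc
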