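import Mathlib
import Cfsg.Agent.BlocksChars.Arc.Commute
import Cfsg.Agent.BlocksChars.Winter.ClassTwo
import Cfsg.Agent.Lib.Cores.Nilpotent

/-!
# A central commutator element with two eigenvalues

If `χ` is faithful of degree `n < 2p` and a `p`-subgroup `P` is not abelian, then `P` has an element
whose eigenvalues are `exp(2πi/p)`, `p` times, and `1`.
-/

set_option linter.style.haveILetI false
set_option linter.unusedSectionVars false

namespace Cfsg.Agent.BlocksChars.Arc

open Cfsg.Agent.Characters Cfsg.Agent.BlocksChars.Winter Matrix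
open Cfsg.Agent.CharP.JordanBound
open scoped ComplexConjugate commutatorElement

universe u

variable {G : Type u} [Group G] [Finite G] {χ : G → ℂ}

/-- A combination of unitary matrices vanishes when the trace form says so. -/
theorem comb_eq_zero {d : ℕ} (M : G →* Matrix (Fin d) (Fin d) ℂ) (hM : ∀ g, (M g)ᴴ * M g = 1)
    (htr : ∀ g, (M g).trace = χ g) {ι : Type*} [Fintype ι] (c : ι → ℂ) (g : ι → G) (s : ι → ℂ)
    (p q : ℂ) (hv : ∀ i j, χ ((g i)⁻¹ * g j) = p * (conj (s i) * s j) + q)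
    (h1 : ∑ i, c i * s i = 0) (h2 : ∑ i, c i = 0) : ∑ i, c i • M (g i) = 0 := by
  refine frob_eq_zero ?_
  have hH : ∀ x, (M x)ᴴ = M x⁻¹ := fun x => by
    have h : M x * M x⁻¹ = 1 := by rw [← map_mul, mul_inv_cancel, map_one]
    rw [← Matrix.mul_one (M x)ᴴ, ← h, ← Matrix.mul_assoc, hM, Matrix.one_mul]
  have e : ((∑ i, c i • M (g i))ᴴ * ∑ i, c i • M (g i)).trace
      = p * (conj (∑ i, c i * s i) * ∑ i, c i * s i) + q * (conj (∑ i, c i) * ∑ i, c i) := by
    rw [conjTranspose_sum, Finset.sum_mul, trace_sum, map_sum, map_sum, Finset.sum_mul,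
      Finset.sum_mul, Finset.mul_sum, Finset.mul_sum, ← Finset.sum_add_distrib]
    refine Finset.sum_congr rfl fun i _ => ?_
    rw [Finset.mul_sum, trace_sum, Finset.mul_sum, Finset.mul_sum, Finset.mul_sum, Finset.mul_sum,
      ← Finset.sum_add_distrib]
    refine Finset.sum_congr rfl fun j _ => ?_
    rw [conjTranspose_smul, Matrix.smul_mul, Matrix.mul_smul, smul_smul, trace_smul, hH, ← map_mul,
      htr, hv, map_mul, smul_eq_mul]
    simp only [Complex.star_def]
    ring
  rw [frob, e, h1, h2]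
  simp

/-- A central element acts on a character by its scalar. -/
theorem scal_inv {R : Type u} [Group R] [Finite R] {θ : R → ℂ} (hθ : Cfsg.IsIrrCharacter R θ)
    (r : R) : scal θ r⁻¹ = conj (scal θ r) := by
  obtain ⟨d, -, hd⟩ := irr_one_pos hθ
  rw [scal, scal, char_inv (isCharacter_of_isIrr hθ), hd, map_div₀, Complex.conj_natCast]

theorem scal_pow {R : Type u} [Group R] [Finite R] {θ : R → ℂ} (hθ : Cfsg.IsIrrCharacter R θ)
    {c : R} (hc : c ∈ Subgroup.center R) (k : ℕ) : scal θ (c ^ k) = scal θ c ^ k := by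
  induction k with
  | zero => rw [pow_zero, pow_zero, scal_one hθ]
  | succ k ih => rw [pow_succ, pow_succ, scal_mul hθ hc, ih]

theorem exists_two_valued (hχ : Cfsg.IsIrrCharacter G χ)
    (hfaith : ∀ g : G, χ g = χ 1 → g = 1) {n : ℕ} (hn : χ 1 = n) {p : ℕ} (hp : p.Prime)
    (hn2 : n < 2 * p) {P : Subgroup G} (hP : IsPGroup p P)
    (hnab : ∃ x ∈ P, ∃ y ∈ P, x * y ≠ y * x) :
    ∃ a : G, χ a = p * Complex.exp (2 * Real.pi * Complex.I / p) + ((n : ℂ) - p) ∧
      ∀ (d : ℕ) (M : G →* Matrix (Fin d) (Fin d) ℂ), (∀ g, (M g)ᴴ * M g = 1) →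
        (∀ g, (M g).trace = χ g) →
        (M a - 1) * (M a - Complex.exp (2 * Real.pi * Complex.I / p) • 1) = 0 := by
  classical
  haveI := Fact.mk hp
  haveI := Fintype.ofFinite G
  haveI := Fintype.ofFinite P
  haveI := Fintype.ofFinite (Cfsg.IrrCharacter P)
  set f : P → ℂ := fun x => χ x with hf
  obtain ⟨m, hm⟩ := char_eq_sum_nat (χ := f) (isCharacter_restrict P (isCharacter_of_isIrr hχ))
  choose deg hdegpos hdeg using fun ξ : Cfsg.IrrCharacter P => irr_one_pos ξ.2
  have hm' : ∀ x, f x = ∑ ξ : Cfsg.IrrCharacter P, (m ξ : ℂ) * (ξ : P → ℂ) x := fun x => by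
    conv_lhs => rw [hm]
    simp [Finset.sum_apply]
  have hsum : n = ∑ ξ, m ξ * deg ξ := by
    have h : (n : ℂ) = f 1 := by rw [hf]; simpa using hn.symm
    rw [hm' 1] at h
    simp only [hdeg, ← Nat.cast_mul, ← Nat.cast_sum, Nat.cast_inj] at h
    exact h
  obtain ⟨k, hk⟩ := hP.exists_card_eq
  have hnl : ∀ ξ, deg ξ ≠ 1 → p ≤ deg ξ := by
    intro ξ h1
    obtain ⟨d, hd, -, hdd⟩ := irr_degree_dvd_card ξ.2
    rw [hdeg, Nat.cast_inj] at hd
    rw [hk, ← hd, Nat.dvd_prime_pow hp] at hdd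
    obtain ⟨i, -, hi⟩ := hdd
    rcases Nat.eq_zero_or_pos i with rfl | hi0
    · exact absurd hi (by simpa using h1)
    · rw [hi]; exact Nat.le_self_pow hi0.ne' p
  -- the linear constituents are trivial on the commutator subgroup
  have hlin : ∀ ξ : Cfsg.IrrCharacter P, deg ξ = 1 → ∀ c ∈ commutator P, (ξ : P → ℂ) c = 1 := by
    intro ξ h1 c hc
    have h1' : (ξ : P → ℂ) 1 = 1 := by rw [hdeg, h1, Nat.cast_one]
    have hmul := char_mul_of_degree_one (irr_isCharacter ξ) h1'
    let l : P →* ℂ := { toFun := (ξ : P → ℂ), map_one' := h1', map_mul' := hmul }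
    have := Abelianization.commutator_subset_ker l.toHomUnits hc
    rw [MonoidHom.mem_ker, ← Units.val_inj, MonoidHom.coe_toHomUnits, Units.val_one] at this
    exact this
  have hfeq : ∀ c : P, f c = f 1 → c = 1 := fun c h =>
    Subtype.ext (hfaith _ (by simpa [hf] using h))
  have hne : commutator P ≠ ⊥ := by
    intro h
    obtain ⟨x, hx, y, hy, hxy⟩ := hnab
    refine hxy ?_
    have : ⁅(⟨x, hx⟩ : P), ⟨y, hy⟩⁆ ∈ commutator P := by
      rw [commutator_def]
      exact Subgroup.commutator_mem_commutator (Subgroup.mem_top _) (Subgroup.mem_top _)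
    rw [h, Subgroup.mem_bot, commutatorElement_eq_one_iff_mul_comm] at this
    exact congrArg Subtype.val this
  haveI : Group.IsNilpotent P := hP.isNilpotent
  obtain ⟨c, hc, hc1⟩ : ∃ c ∈ commutator P ⊓ Subgroup.center P, c ≠ 1 := by
    by_contra! h
    exact Cfsg.Agent.Cores.inf_center_ne_bot hne ((Subgroup.eq_bot_iff_forall _).2 h)
  obtain ⟨t, ht⟩ := hP c
  obtain ⟨x, hx, hx1, hxp⟩ : ∃ x ∈ commutator P ⊓ Subgroup.center P, x ≠ 1 ∧ x ^ p = 1 := by
    obtain ⟨i, hi⟩ := exists_prime_orderOf_dvd_card' (G := ↥(commutator P ⊓ Subgroup.center P)) p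
      (by
        have h1 : Nat.card ↥(commutator P ⊓ Subgroup.center P) ∣ p ^ k :=
          hk ▸ Subgroup.card_subgroup_dvd_card _
        obtain ⟨i, -, hi⟩ := (Nat.dvd_prime_pow hp).1 h1
        rw [hi]
        refine dvd_pow_self p fun h0 => hc1 ?_
        rw [h0, pow_zero, Subgroup.card_eq_one] at hi
        rwa [hi, Subgroup.mem_bot] at hc)
    refine ⟨i, i.2, fun h => ?_, ?_⟩
    · rw [show i = 1 from Subtype.ext h, orderOf_one] at hi
      exact hp.one_lt.ne hi
    · have := pow_orderOf_eq_one i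
      rw [hi] at this
      exact congrArg Subtype.val this
  -- exactly one nonlinear constituent
  obtain ⟨ξ, hξm, hξd⟩ : ∃ ξ, m ξ ≠ 0 ∧ deg ξ ≠ 1 := by
    by_contra! h
    refine hx1 (hfeq x ?_)
    rw [hm', hm']
    refine Finset.sum_congr rfl fun ξ _ => ?_
    by_cases h0 : m ξ = 0
    · simp [h0]
    · rw [hlin ξ (h ξ h0) x hx.1, hdeg, h ξ h0, Nat.cast_one]
  have hξp := hnl ξ hξd
  have hle : m ξ * deg ξ ≤ n :=
    hsum ▸ Finset.single_le_sum (f := fun η => m η * deg η) (fun _ _ => Nat.zero_le _)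
      (Finset.mem_univ ξ)
  have hm1 : m ξ = 1 := by
    have h2 : m ξ * p < 2 * p := lt_of_le_of_lt (le_trans (Nat.mul_le_mul_left _ hξp) hle) hn2
    have := Nat.lt_of_mul_lt_mul_right h2
    omega
  have hdp : deg ξ = p := by
    obtain ⟨d, hd, -, hdd⟩ := irr_degree_dvd_card ξ.2
    rw [hdeg, Nat.cast_inj] at hd
    rw [hk, ← hd, Nat.dvd_prime_pow hp] at hdd
    obtain ⟨i, -, hi⟩ := hdd
    rw [hm1, one_mul, hi] at hle
    match i, hi with
    | 0, hi => exact absurd hi (by simpa using hξd)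
    | 1, hi => simpa using hi
    | i + 2, hi =>
      exfalso
      have : p ^ 2 ≤ p ^ (i + 2) := Nat.pow_le_pow_right hp.pos (by omega)
      have h2 := hp.two_le
      nlinarith
  have hother : ∀ η, η ≠ ξ → m η ≠ 0 → deg η = 1 := by
    intro η hη h0
    by_contra h1
    have h2 := hnl η h1
    have h3 : m ξ * deg ξ + m η * deg η ≤ n := by
      rw [hsum, ← Finset.sum_pair (f := fun ζ => m ζ * deg ζ) (Ne.symm hη)]
      exact Finset.sum_le_sum_of_subset (Finset.subset_univ _)
    have h4 : deg η ≤ m η * deg η := Nat.le_mul_of_pos_left _ (Nat.pos_of_ne_zero h0)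
    rw [hm1, one_mul, hdp] at h3
    omega
  set s : P → ℂ := scal (ξ : P → ℂ) with hs
  have hval : ∀ z ∈ commutator P ⊓ Subgroup.center P, f z = p * s z + ((n : ℂ) - p) := by
    intro z hz
    have key : ∀ η, (m η : ℂ) * (η : P → ℂ) z
        = (m η * deg η : ℕ) + if η = ξ then (p : ℂ) * s z - p else 0 := by
      intro η
      split_ifs with h
      · subst h
        rw [hm1, Nat.cast_one, one_mul, one_mul, hdp, hs, scal, hdeg, hdp,
          mul_div_cancel₀ _ (Nat.cast_ne_zero.2 hp.ne_zero)]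
        ring
      · by_cases h0 : m η = 0
        · simp [h0]
        · rw [hlin η (hother η h h0) z hz.1, hother η h h0]
          simp
    rw [hm', Finset.sum_congr rfl fun η _ => key η, Finset.sum_add_distrib, ← Nat.cast_sum, ← hsum,
      Finset.sum_ite_eq', if_pos (Finset.mem_univ _)]
    ring
  have hsp : s x ^ p = 1 := by rw [hs, ← scal_pow ξ.2 hx.2, hxp, scal_one ξ.2]
  have hs1 : s x ≠ 1 := fun h => hx1 (hfeq x (by
    rw [hval x hx, h, hval 1 (one_mem _), hs, scal_one ξ.2]))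
  set ω : ℂ := Complex.exp (2 * Real.pi * Complex.I / p) with hω
  have hprim : IsPrimitiveRoot (s x) p := by
    have := IsPrimitiveRoot.orderOf (s x)
    rwa [orderOf_eq_prime hsp hs1] at this
  obtain ⟨j, -, hj⟩ := hprim.eq_pow_of_pow_eq_one
    (Complex.isPrimitiveRoot_exp p hp.ne_zero).pow_eq_one
  set a : P := x ^ j with ha
  have hamem : a ∈ commutator P ⊓ Subgroup.center P := pow_mem hx j
  have hsa : s a = ω := by rw [hs, ha, scal_pow ξ.2 hx.2, ← hs, hj]
  refine ⟨a, ?_, fun d M hM htr => ?_⟩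
  · have := hval a hamem
    rw [hsa] at this
    simpa [hf] using this
  let g : Fin 3 → P := ![a * a, a, 1]
  have hg : ∀ i, g i ∈ commutator P ⊓ Subgroup.center P := by
    intro i; fin_cases i
    exacts [mul_mem hamem hamem, hamem, one_mem _]
  have h := comb_eq_zero M hM htr ![1, -(1 + ω), ω] (fun i => (g i : G)) (fun i => s (g i)) p
    ((n : ℂ) - p) (fun i j => by
      rw [← scal_inv ξ.2, ← scal_mul ξ.2 (hg j).2, ← hs,
        ← hval _ (mul_mem (inv_mem (hg i)) (hg j))]
      simp [hf])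
    (by
      simp [Fin.sum_univ_three, g, hs, scal_one ξ.2, scal_mul ξ.2 hamem.2]
      rw [← hs, hsa]; ring)
    (by simp [Fin.sum_univ_three])
  simp [Fin.sum_univ_three, g] at h
  rw [Matrix.sub_mul, Matrix.mul_sub, Matrix.one_mul, Matrix.mul_smul, Matrix.mul_one, ← h]
  module

end Cfsg.Agent.BlocksChars.Arc
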