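import Mathlib
import Cfsg.Agent.BlocksChars.Arc.TwoValues
import Cfsg.Agent.Lib.Characters.Normal

/-!
# Sylow subgroups of linear groups of degree below `2p`

The element with two eigenvalues commutes with its conjugates; the centralizer of its normal closure
is abelian normal, and the quotient permutes `n` linear characters faithfully.
-/

set_option linter.style.haveILetI false
set_option linter.unusedSectionVars false

namespace Cfsg.Agent.BlocksChars.Arc

open Cfsg.Agent.Characters Cfsg.Agent.BlocksChars.Winter Matrix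
open scoped ComplexConjugate commutatorElement

universe u

variable {G : Type u} [Group G] [Finite G] {χ : G → ℂ}

theorem sq_not_dvd_factorial {p : ℕ} (hp : p.Prime) : ∀ k : ℕ, k < 2 * p → ¬ p ^ 2 ∣ k.factorial
  | 0, _ => fun h => by
    have := Nat.le_of_dvd one_pos h
    have := Nat.one_lt_pow two_ne_zero hp.one_lt
    omega
  | k + 1, hk => fun h => by
    rw [Nat.factorial_succ] at h
    by_cases hd : p ∣ k + 1
    · obtain ⟨c, hc⟩ := hd
      have hc1 : c = 1 := by
        have : c < 2 := Nat.lt_of_mul_lt_mul_left (a := p) (by omega)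
        have : c ≠ 0 := by rintro rfl; simp at hc
        omega
      rw [hc, hc1, mul_one, sq] at h
      have := (hp.dvd_factorial).1 (Nat.dvd_of_mul_dvd_mul_left hp.pos h)
      rw [hc1, mul_one] at hc
      omega
    · exact sq_not_dvd_factorial hp k (by omega)
        (((hp.coprime_iff_not_dvd.2 hd).pow_left 2).dvd_of_dvd_mul_left h)

/-- An element with two eigenvalues generates an abelian normal subgroup. -/
theorem exists_abelian_normal (hχ : Cfsg.IsIrrCharacter G χ)
    (hfaith : ∀ g : G, χ g = χ 1 → g = 1) {n : ℕ} (hn : χ 1 = n) {p : ℕ} (hp : p.Prime)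
    (h7 : 7 ≤ p) (hn2 : n < 2 * p) {P : Subgroup G} (hP : IsPGroup p P)
    (hnab : ∃ x ∈ P, ∃ y ∈ P, x * y ≠ y * x) :
    ∃ (A : Subgroup G) (a : A), A.Normal ∧ (∀ b c : A, b * c = c * b) ∧
      χ a = p * Complex.exp (2 * Real.pi * Complex.I / p) + ((n : ℂ) - p) ∧
      ∀ b : A, χ (a * a * b : A) - (1 + Complex.exp (2 * Real.pi * Complex.I / p)) * χ (a * b : A)
        + Complex.exp (2 * Real.pi * Complex.I / p) * χ b = 0 := by
  classical
  obtain ⟨a, hca, hrel⟩ := exists_two_valued hχ hfaith hn hp hn2 hP hnab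
  obtain ⟨d, ρ, -, hρ⟩ := hχ
  subst hρ
  let R : G →* Matrix (Fin d) (Fin d) ℂ :=
    (LinearMap.toMatrixAlgEquiv' (R := ℂ) (n := Fin d)).toMulEquiv.toMonoidHom.comp ρ
  have hR : ∀ g, (R g).trace = ρ.character g := fun g =>
    ((LinearMap.trace_eq_matrix_trace ℂ (Pi.basisFun ℂ (Fin d)) (ρ g)).trans
      (by rw [LinearMap.toMatrix_eq_toMatrix']; rfl)).symm
  obtain ⟨M, hM, htr'⟩ := exists_unitary_trace R
  have htr : ∀ g, (M g).trace = ρ.character g := fun g => by rw [htr', hR]
  set ω := Complex.exp (2 * Real.pi * Complex.I / p) with hω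
  have hq := hrel d M hM htr
  have hinj : Function.Injective M := fun g h e => by
    have e1 : M (g⁻¹ * h) = M 1 := by rw [map_mul, ← e, ← map_mul, inv_mul_cancel]
    exact inv_mul_eq_one.1 (hfaith _ (by rw [← htr, e1, htr]))
  have hp0 : (p : ℂ) ≠ 0 := Nat.cast_ne_zero.2 hp.ne_zero
  have hcl : Clustered M a := by
    refine ⟨Complex.exp (-(Real.pi * Complex.I / p)), ⟨2 * p, by linarith [hp.pos], ?_⟩,
      fun X hX z hz => ?_⟩
    · rw [← Complex.exp_nat_mul, ← Complex.exp_neg 0 |>.trans (by simp : (Complex.exp 0)⁻¹ = 1),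
        Complex.exp_eq_exp_iff_exists_int]
      refine ⟨-1, ?_⟩
      push_cast
      field_simp
      ring
    · have h0 : ((z - ω) * (z - 1)) • X = 0 := by
        calc ((z - ω) * (z - 1)) • X = (M a - 1) * ((M a - ω • 1) * X) := by
              rw [Matrix.sub_mul (M a) (ω • 1), hz, Matrix.smul_mul, Matrix.one_mul, ← sub_smul,
                Matrix.mul_smul, Matrix.sub_mul, hz, Matrix.one_mul, ← smul_smul, sub_smul z 1,
                one_smul]
          _ = 0 := by rw [← Matrix.mul_assoc, hq, Matrix.zero_mul]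
      have hbound : Real.pi / p < Real.pi / 6 :=
        div_lt_div_of_pos_left Real.pi_pos (by norm_num) (by exact_mod_cast h7)
      have hpos : (0 : ℝ) ≤ Real.pi / p := by positivity
      rcases mul_eq_zero.1 ((smul_eq_zero.1 h0).resolve_right hX) with h | h <;>
        rw [sub_eq_zero] at h
      · refine ⟨Real.pi / p, by rw [abs_of_nonneg hpos]; exact hbound, ?_⟩
        rw [h, hω, ← Complex.exp_add]
        congr 1
        push_cast
        ring
      · refine ⟨-(Real.pi / p), by rw [abs_neg, abs_of_nonneg hpos]; exact hbound, ?_⟩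
        rw [h, mul_one]
        congr 1
        push_cast
        ring
  have hcomm : ∀ u ∈ Group.conjugatesOfSet {a}, ∀ v ∈ Group.conjugatesOfSet {a}, u * v = v * u := by
    intro u hu v hv
    simp only [Group.mem_conjugatesOfSet_iff, Set.mem_singleton_iff, exists_eq_left, isConj_iff]
      at hu hv
    obtain ⟨g, rfl⟩ := hu
    obtain ⟨k, rfl⟩ := hv
    exact commute_of_clustered M hM hinj (clustered_conj M hcl g) (clustered_conj M hcl k)
  have hA : ∀ b ∈ Subgroup.normalClosure {a}, ∀ c ∈ Subgroup.normalClosure {a}, b * c = c * b := by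
    have h1 : Subgroup.normalClosure {a} ≤ Subgroup.centralizer (Group.conjugatesOfSet {a}) :=
      (Subgroup.closure_le _).2 fun u hu => Subgroup.mem_centralizer_iff.2 fun v hv => hcomm v hv u hu
    have h2 : Subgroup.normalClosure {a} ≤ Subgroup.centralizer (Subgroup.normalClosure {a} : Set G) :=
      (Subgroup.closure_le _).2 fun u hu => Subgroup.mem_centralizer_iff.2 fun v hv =>
        (Subgroup.mem_centralizer_iff.1 (h1 hv) u hu).symm
    exact fun b hb c hc => Subgroup.mem_centralizer_iff.1 (h2 hc) b hb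
  refine ⟨Subgroup.normalClosure {a}, ⟨a, Subgroup.subset_normalClosure rfl⟩,
    Subgroup.normalClosure_normal, fun b c => Subtype.ext (hA b b.2 c c.2), hca, fun b => ?_⟩
  have h := congrArg (fun Y => Matrix.trace (Y * M b)) hq
  simp only [Matrix.sub_mul, Matrix.mul_sub, Matrix.one_mul, Matrix.mul_one, Matrix.smul_mul,
    Matrix.mul_smul, Matrix.mul_assoc, ← map_mul, trace_sub, trace_smul, htr, Matrix.zero_mul,
    trace_zero, smul_eq_mul] at h
  show ρ.character (a * a * b) - _ * ρ.character (a * b) + _ = 0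
  rw [← h, mul_assoc]
  ring

/-- The index of the `p`-core has `p`-part at most `p`. -/
theorem sq_not_dvd_index (hχ : Cfsg.IsIrrCharacter G χ)
    (hfaith : ∀ g : G, χ g = χ 1 → g = 1) {n : ℕ} (hn : χ 1 = n) {p : ℕ} (hp : p.Prime)
    (h7 : 7 ≤ p) (hn2 : n < 2 * p) (hnp : n ≠ p) {P : Subgroup G} (hP : IsPGroup p P)
    (hnab : ∃ x ∈ P, ∃ y ∈ P, x * y ≠ y * x) :
    ∃ D : Subgroup G, D.Normal ∧ (∀ x y : D, x * y = y * x) ∧ ¬ p ^ 2 ∣ D.index := by
  classical
  obtain ⟨A, a, hAn, hAc, hca, hrel⟩ := exists_abelian_normal hχ hfaith hn hp h7 hn2 hP hnab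
  haveI := hAn
  haveI := Fintype.ofFinite G
  haveI := Fintype.ofFinite A
  haveI := Fintype.ofFinite (Cfsg.IrrCharacter A)
  set ω := Complex.exp (2 * Real.pi * Complex.I / p) with hω
  have hω1 : ω ≠ 1 := (Complex.isPrimitiveRoot_exp p hp.ne_zero).ne_one hp.one_lt
  have hχc := isCharacter_of_isIrr hχ
  set f : A → ℂ := fun b => χ b with hf
  have hfc : Cfsg.IsCharacter A f := isCharacter_restrict A hχc
  choose m hm using fun θ : Cfsg.IrrCharacter A => classInner_char_nat hfc (irr_isCharacter θ)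
  have hexp : ∀ b, f b = ∑ θ : Cfsg.IrrCharacter A, (m θ : ℂ) * (θ : A → ℂ) b := fun b => by
    conv_lhs => rw [classFun_eq_sum (char_isClassFunction hfc)]
    simp [Finset.sum_apply, hm]
  have hone : ∀ θ : Cfsg.IrrCharacter A, (θ : A → ℂ) 1 = 1 := fun θ =>
    irr_degree_one_of_comm hAc θ.2
  have hmul : ∀ (θ : Cfsg.IrrCharacter A) (b c : A),
      (θ : A → ℂ) (b * c) = (θ : A → ℂ) b * (θ : A → ℂ) c := fun θ =>
    char_mul_of_degree_one (irr_isCharacter θ) (hone θ)
  have hsum : n = ∑ θ, m θ := by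
    have h := hexp 1
    simp only [hone, mul_one, hf, OneMemClass.coe_one, hn, ← Nat.cast_sum, Nat.cast_inj] at h
    exact h
  have hval : ∀ θ, m θ ≠ 0 → (θ : A → ℂ) a = 1 ∨ (θ : A → ℂ) a = ω := by
    intro θ hθ
    set c : Cfsg.IrrCharacter A → ℂ := fun η =>
      (m η : ℂ) * (((η : A → ℂ) a - 1) * ((η : A → ℂ) a - ω)) with hc
    have h0 : ∑ η, c η • (η : A → ℂ) = 0 := by
      funext b
      have h := hrel b
      rw [show χ (a * a * b : A) = f (a * a * b) from rfl, show χ (a * b : A) = f (a * b) from rfl,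
        show χ b = f b from rfl, hexp, hexp, hexp, Finset.mul_sum, Finset.mul_sum,
        ← Finset.sum_sub_distrib, ← Finset.sum_add_distrib] at h
      rw [Finset.sum_apply, Pi.zero_apply, ← h]
      refine Finset.sum_congr rfl fun η _ => ?_
      rw [Pi.smul_apply, smul_eq_mul, hc, hmul, hmul, hmul]
      ring
    have h := classInner_sum_smul_irr (c := c) Finset.univ θ
    rw [h0, if_pos (Finset.mem_univ _), show Cfsg.classInner (0 : A → ℂ) (θ : A → ℂ) = 0 by
      simp [classInner_def], hc, eq_comm, mul_eq_zero] at h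
    rcases mul_eq_zero.1 (h.resolve_left (Nat.cast_ne_zero.2 hθ)) with h | h
    · exact Or.inl (sub_eq_zero.1 h)
    · exact Or.inr (sub_eq_zero.1 h)
  have hcount : ∑ θ ∈ Finset.univ.filter (fun θ : Cfsg.IrrCharacter A => (θ : A → ℂ) a = ω), m θ = p := by
    have h : f a = (n : ℂ) + (ω - 1) * (∑ θ ∈ Finset.univ.filter (fun θ : Cfsg.IrrCharacter A => (θ : A → ℂ) a = ω), m θ : ℕ) := by
      rw [hexp, hsum]
      push_cast
      rw [Finset.sum_filter, Finset.mul_sum, ← Finset.sum_add_distrib]
      refine Finset.sum_congr rfl fun θ _ => ?_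
      by_cases h0 : m θ = 0
      · simp [h0]
      rcases hval θ h0 with h | h
      · rw [h, if_neg (Ne.symm hω1)]; ring
      · rw [h, if_pos rfl]; ring
    rw [show f a = χ a from rfl, hca] at h
    have h' : (ω - 1) * ((p : ℂ) - (∑ θ ∈ Finset.univ.filter (fun θ : Cfsg.IrrCharacter A => (θ : A → ℂ) a = ω), m θ : ℕ)) = 0 := by
      linear_combination h
    exact_mod_cast (sub_eq_zero.1 ((mul_eq_zero.1 h').resolve_left (sub_ne_zero.2 hω1))).symm
  have heq : ∀ θ φ, m θ ≠ 0 → m φ ≠ 0 → m θ = m φ := by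
    intro θ φ hθ hφ
    obtain ⟨g, hg⟩ := exists_conjugate_of_constituents A hχ θ.2 φ.2
      (by rw [hm]; exact_mod_cast hθ) (by rw [hm]; exact_mod_cast hφ)
    have h := classInner_conjFun A (char_isClassFunction hχc) (θ : A → ℂ) g
    rw [← hg, hm, hm, Nat.cast_inj] at h
    exact h.symm
  have hle1 : ∀ θ, m θ ≤ 1 := by
    intro θ
    by_contra! h
    have h1 : ∀ φ, m θ ∣ m φ := fun φ => by
      by_cases h0 : m φ = 0
      · rw [h0]; exact dvd_zero _
      · exact dvd_of_eq (heq θ φ (by omega) h0)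
    have hdp : m θ ∣ p := hcount ▸ Finset.dvd_sum fun φ _ => h1 φ
    have hdn : m θ ∣ n := hsum ▸ Finset.dvd_sum fun φ _ => h1 φ
    rcases (Nat.dvd_prime hp).1 hdp with h2 | h2
    · omega
    rw [h2] at hdn
    obtain ⟨k, rfl⟩ := hdn
    have hk : k < 2 := Nat.lt_of_mul_lt_mul_left (a := p) (by omega)
    interval_cases k
    · have := irr_one_ne_zero hχ
      simp [hn] at this
    · simp at hnp
  let D : Subgroup G := Subgroup.centralizer (A : Set G)
  haveI hDn : D.Normal := inferInstance
  refine ⟨D, hDn, ?_, ?_⟩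
  · haveI := Fintype.ofFinite D
    haveI := Fintype.ofFinite (Cfsg.IrrCharacter D)
    obtain ⟨m', hm'⟩ := char_eq_sum_nat (χ := fun x : D => χ x) (isCharacter_restrict D hχc)
    have hm'' : ∀ x : D, χ x = ∑ ψ : Cfsg.IrrCharacter D, (m' ψ : ℂ) * (ψ : D → ℂ) x := fun x => by
      rw [show χ x = (fun x : D => χ x) x from rfl, hm']
      simp [Finset.sum_apply]
    let ι : A →* D := Subgroup.inclusion fun b hb => Subgroup.mem_centralizer_iff.2 fun c hc =>
      congrArg Subtype.val (hAc ⟨c, hc⟩ ⟨b, hb⟩)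
    have hι : ∀ b : A, ι b ∈ Subgroup.center D := fun b => Subgroup.mem_center_iff.2 fun x =>
      Subtype.ext (Subgroup.mem_centralizer_iff.1 x.2 b b.2).symm
    have hdeg : ∀ ψ, m' ψ ≠ 0 → (ψ : D → ℂ) 1 = 1 := by
      intro ψ hψ
      let l : A →* ℂ :=
        { toFun := fun b => scal (ψ : D → ℂ) (ι b)
          map_one' := by simp only [map_one, scal_one ψ.2]
          map_mul' := fun b c => by simp only [map_mul, scal_mul ψ.2 (hι c)] }
      have hl : Cfsg.IsIrrCharacter A l := isIrrCharacter_monoidHom l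
      choose k hk using fun η : Cfsg.IrrCharacter D => classInner_char_nat
        (isCharacter_comp ι (irr_isCharacter η)) (isCharacter_of_isIrr hl)
      have h1 : (m ⟨l, hl⟩ : ℂ) = (∑ η, m' η * k η : ℕ) := by
        rw [← hm, show f = ∑ η : Cfsg.IrrCharacter D, (m' η : ℂ) • ((η : D → ℂ) ∘ ι) by
          funext b
          rw [show f b = χ (ι b) from rfl, hm'']
          simp [Finset.sum_apply], classInner_sum_left]
        push_cast
        simp only [classInner_smul_left, hk]
      obtain ⟨d, hd0, hd⟩ := irr_one_pos ψ.2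
      have h2 : k ψ = d := by
        have e : (ψ : D → ℂ) ∘ ι = (d : ℂ) • (l : A → ℂ) := by
          funext b
          show (ψ : D → ℂ) (ι b) = (d : ℂ) * scal (ψ : D → ℂ) (ι b)
          rw [scal, hd, mul_div_cancel₀ _ (Nat.cast_ne_zero.2 hd0.ne')]
        have := hk ψ
        rw [e, classInner_smul_left, classInner_isIrr_self hl, mul_one, Nat.cast_inj] at this
        exact this.symm
      have h3 : m' ψ * k ψ ≤ 1 := le_trans
        (Finset.single_le_sum (f := fun η => m' η * k η) (fun _ _ => Nat.zero_le _)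
          (Finset.mem_univ ψ)) ((Nat.cast_inj.1 h1) ▸ hle1 _)
      rw [h2] at h3
      have : d ≤ m' ψ * d := Nat.le_mul_of_pos_left _ (Nat.pos_of_ne_zero hψ)
      rw [hd, show d = 1 by omega, Nat.cast_one]
    intro x y
    rw [← commutatorElement_eq_one_iff_mul_comm]
    refine Subtype.ext (hfaith _ ?_)
    rw [show χ 1 = χ ((1 : D) : G) from rfl, hm'', hm'']
    refine Finset.sum_congr rfl fun ψ _ => ?_
    by_cases h0 : m' ψ = 0
    · simp [h0]
    let l : D →* ℂ :=
      { toFun := (ψ : D → ℂ), map_one' := hdeg ψ h0,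
        map_mul' := char_mul_of_degree_one (irr_isCharacter ψ) (hdeg ψ h0) }
    have := Abelianization.commutator_subset_ker l.toHomUnits
      (Subgroup.commutator_mem_commutator (Subgroup.mem_top x) (Subgroup.mem_top y))
    rw [MonoidHom.mem_ker, ← Units.val_inj, MonoidHom.coe_toHomUnits, Units.val_one] at this
    rw [show (ψ : D → ℂ) ⁅x, y⁆ = 1 from this, hdeg ψ h0]
  · let S := {θ : Cfsg.IrrCharacter A // m θ ≠ 0}
    have hmc : ∀ (θ : Cfsg.IrrCharacter A) (g : G),
        m ⟨conjFun A (θ : A → ℂ) g, isIrrCharacter_conjFun A θ.2 g⟩ = m θ := fun θ g => by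
      have h := classInner_conjFun A (char_isClassFunction hχc) (θ : A → ℂ) g
      rw [hm θ, show Cfsg.classInner (fun n : A => χ n) (conjFun A (θ : A → ℂ) g) = _ from
        hm ⟨_, isIrrCharacter_conjFun A θ.2 g⟩, Nat.cast_inj] at h
      exact h
    letI : MulAction G S :=
      { smul := fun g θ =>
          ⟨⟨conjFun A (θ.1 : A → ℂ) g⁻¹, isIrrCharacter_conjFun A θ.1.2 _⟩, by rw [hmc]; exact θ.2⟩
        one_smul := fun θ => Subtype.ext (Subtype.ext (funext fun b => congrArg θ.1.1
          (Subtype.ext (by simp))))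
        mul_smul := fun g h θ => Subtype.ext (Subtype.ext (by
          show conjFun A (θ.1 : A → ℂ) (g * h)⁻¹ = _
          rw [_root_.mul_inv_rev, conjFun_mul]
          rfl)) }
    let π := MulAction.toPermHom G S
    have hker : π.ker ≤ D := by
      intro g hg
      refine Subgroup.mem_centralizer_iff.2 fun b hb => ?_
      set b' : A := ⟨g⁻¹ * b * g, by simpa using hAn.conj_mem b hb g⁻¹⟩
      have h1 : χ (((⟨b, hb⟩ : A)⁻¹ * b' : A) : G) = χ 1 := by
        rw [show χ (((⟨b, hb⟩ : A)⁻¹ * b' : A) : G) = f (⟨b, hb⟩⁻¹ * b') from rfl,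
          show χ 1 = f 1 from rfl, hexp, hexp]
        refine Finset.sum_congr rfl fun θ _ => ?_
        by_cases h0 : m θ = 0
        · simp [h0]
        have e : π g ⟨θ, h0⟩ = ⟨θ, h0⟩ := by rw [MonoidHom.mem_ker.1 hg]; rfl
        have e2 : (θ : A → ℂ) b' = (θ : A → ℂ) ⟨b, hb⟩ := by
          have e3 := congrArg (fun s : S => (s.1 : A → ℂ) ⟨b, hb⟩) e
          refine Eq.trans (congrArg (θ : A → ℂ) ?_) e3
          exact Subtype.ext (by simp [b'])
        rw [hmul, e2, ← hmul, inv_mul_cancel]
      have h2 := hfaith _ h1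
      simp only [Subgroup.coe_mul, Subgroup.coe_inv, inv_mul_eq_one, b'] at h2
      calc b * g = g * (g⁻¹ * b * g) := by group
        _ = g * b := by rw [← h2]
    intro hdvd
    have hcard : Nat.card S = n := by
      rw [hsum, Nat.card_eq_fintype_card, Fintype.card_subtype, Finset.card_filter]
      refine Finset.sum_congr rfl fun θ _ => ?_
      have := hle1 θ
      split_ifs <;> omega
    refine sq_not_dvd_factorial hp n hn2 ?_
    refine dvd_trans (hdvd.trans (Subgroup.index_dvd_of_le hker)) ?_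
    rw [Subgroup.index_ker, ← hcard, ← Nat.card_perm]
    exact Subgroup.card_subgroup_dvd_card _

end Cfsg.Agent.BlocksChars.Arc
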