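import Mathlib

/-!
# Simultaneous approximation for roots of unity of prime order
-/

namespace Cfsg.Agent.BlocksChars.Arc

/-- If `6^#T < p` some nontrivial power brings the `p`-th roots `w t` within sixty degrees of `1`. -/
theorem exists_pow_near {p : ℕ} (hp : p.Prime) {T : Type*} [Fintype T] (w : T → ℂ)
    (hw : ∀ t, w t ^ p = 1) (hT : 6 ^ Fintype.card T < p) :
    ∃ s : ℕ, 0 < s ∧ s < p ∧ ∀ t, Complex.normSq (w t ^ s - 1) < 1 := by
  classical
  set ζ : ℂ := Complex.exp (2 * Real.pi * Complex.I / p) with hζdef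
  have hζ : IsPrimitiveRoot ζ p := Complex.isPrimitiveRoot_exp p hp.ne_zero
  haveI := NeZero.mk hp.ne_zero
  choose D hD hDw using fun t => hζ.eq_pow_of_pow_eq_one (hw t)
  let F : Fin p → T → Fin 6 := fun k t => ⟨(k : ℕ) * D t % p * 6 / p, by
    rw [Nat.div_lt_iff_lt_mul hp.pos]
    have := Nat.mod_lt ((k : ℕ) * D t) hp.pos
    omega⟩
  obtain ⟨k, l, hkl, hF⟩ : ∃ k l : Fin p, (k : ℕ) < l ∧ F k = F l := by
    obtain ⟨k, l, hne, hF⟩ := Fintype.exists_ne_map_eq_of_card_lt F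
      (by simpa [Fintype.card_fun] using hT)
    rcases lt_or_gt_of_ne (Fin.val_ne_of_ne hne) with h | h
    exacts [⟨k, l, h, hF⟩, ⟨l, k, h, hF.symm⟩]
  refine ⟨(l : ℕ) - k, by omega, lt_of_le_of_lt (Nat.sub_le _ _) l.isLt, fun t => ?_⟩
  set A := (k : ℕ) * D t % p with hA
  set B := (l : ℕ) * D t % p with hB
  have hdiv : A * 6 / p = B * 6 / p := congrArg Fin.val (congrFun hF t)
  have h1 : A * 6 < B * 6 + p ∧ B * 6 < A * 6 + p := by
    have a1 := Nat.div_add_mod (A * 6) p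
    have a2 := Nat.mod_lt (A * 6) hp.pos
    have b1 := Nat.div_add_mod (B * 6) p
    have b2 := Nat.mod_lt (B * 6) hp.pos
    rw [hdiv] at a1
    omega
  have hζ0 : ζ ≠ 0 := Complex.exp_ne_zero _
  have hpow : w t ^ ((l : ℕ) - k) = ζ ^ ((B : ℤ) - (A : ℤ)) := by
    have e1 : ζ ^ B = w t ^ (l : ℕ) := by
      rw [hB, ← pow_eq_pow_mod _ hζ.pow_eq_one, ← hDw t, ← pow_mul, mul_comm]
    have e2 : ζ ^ A = w t ^ (k : ℕ) := by
      rw [hA, ← pow_eq_pow_mod _ hζ.pow_eq_one, ← hDw t, ← pow_mul, mul_comm]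
    have hw0 : w t ≠ 0 := fun h => by simp [← hDw t, hζ0] at h
    rw [zpow_sub₀ hζ0, zpow_natCast, zpow_natCast, e1, e2, pow_sub₀ _ hw0 hkl.le, div_eq_mul_inv]
  set R : ℝ := ((B : ℝ) - A) * (2 * Real.pi / p) with hR
  have hexp : ζ ^ ((B : ℤ) - (A : ℤ)) = Complex.exp (R * Complex.I) := by
    rw [hζdef, ← Complex.exp_int_mul, hR]
    congr 1
    push_cast
    ring
  have hRlt : |R| < Real.pi / 3 := by
    have hp0 : (0 : ℝ) < p := Nat.cast_pos.2 hp.pos
    have c1 : ((A : ℝ)) * 6 < (B : ℝ) * 6 + p := by exact_mod_cast h1.1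
    have c2 : ((B : ℝ)) * 6 < (A : ℝ) * 6 + p := by exact_mod_cast h1.2
    have hpos : 0 < 2 * Real.pi / (p : ℝ) := by positivity
    have e : (p : ℝ) / 6 * (2 * Real.pi / p) = Real.pi / 3 := by field_simp; norm_num
    rw [hR, abs_mul, abs_of_pos hpos, ← e]
    refine mul_lt_mul_of_pos_right ?_ hpos
    rw [abs_lt]
    constructor <;> linarith
  have hcos : 1 / 2 < Real.cos R := by
    rw [← Real.cos_abs, ← Real.cos_pi_div_three]
    exact Real.cos_lt_cos_of_nonneg_of_le_pi (abs_nonneg R) (by linarith [Real.pi_pos]) hRlt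
  rw [hpow, hexp, Complex.normSq_apply, Complex.sub_re, Complex.sub_im, Complex.exp_ofReal_mul_I_re,
    Complex.exp_ofReal_mul_I_im, Complex.one_re, Complex.one_im]
  nlinarith [Real.sin_sq_add_cos_sq R]

end Cfsg.Agent.BlocksChars.Arc
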